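import Mathlib
import Cfsg.Agent.H989.Gs.Gen
import Cfsg.Agent.H441.GS.Chain
import Cfsg.Agent.AutOrth.Final
import Cfsg.Agent.H989.OutOrth.Basic
import Cfsg.Agent.FastGrp
import Cfsg.Agent.Prune
set_option linter.all false
prune_inst 0x7f00000000000000000000000000000000000000000000000000000000000000000000000000000000000000000000000000000000000000000000000000000000000000000000000000000000000000003fffffffffffffffffffffffffffbeffbdffffffff
open scoped Cfsg.Agent.FastGrp

/-!
# S4327: semilinear automorphisms of orthogonal groups, few conjugates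

`reach_of_sys`, `reach_std`, `reach_semi`, `reach_psi`.
-/

set_option autoImplicit false
set_option linter.unusedSimpArgs false
set_option linter.unusedVariables false

/-!
# Few conjugates of a field automorphism of an orthogonal group generate everything
-/


namespace Cfsg.Agent.H989.Gs.Semi

open QuadraticMap Cfsg.Agent.LieClassical.OrthCore Cfsg.Agent.LieClassical.OrthTrans
  Cfsg.Agent.LieClassical.OrthSimple Cfsg.Agent.AutOrth.SemiSim Cfsg.Agent.AutOrth.Gen
  Cfsg.Agent.H989.Gs.Gen Cfsg.Agent.H915.Gs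

/-! ### The field -/

section Field

variable {F : Type*} [Field F] [Finite F]

theorem inv_mem_subring (K : Subring F) {x : F} (hx : x ∈ K) : x⁻¹ ∈ K := by
  cases nonempty_fintype F
  by_cases h0 : x = 0
  · rw [h0, inv_zero]
    exact zero_mem K
  · have h1 := FiniteField.pow_card_sub_one_eq_one x h0
    have h2 : 2 ≤ Fintype.card F := Fintype.one_lt_card
    have h3 : x⁻¹ = x ^ (Fintype.card F - 2) := by
      apply inv_eq_of_mul_eq_one_right
      rw [← pow_succ']
      have : Fintype.card F - 2 + 1 = Fintype.card F - 1 := by omega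
      rw [this, h1]
    rw [h3]
    exact pow_mem hx _

/-- if `σ x ∈ K x` for all `x`, then `K = F` or `σ = 1` -/
theorem eq_top_of_lines {σ : F ≃+* F} (hσ : σ ≠ RingEquiv.refl F) {K : Subring F}
    (h : ∀ x : F, x ≠ 0 → σ x * x⁻¹ ∈ K) : K = ⊤ := by
  by_contra hK
  obtain ⟨x₀, hx₀⟩ : ∃ x, x ∉ K := by
    by_contra h1
    push Not at h1
    exact hK (top_unique fun x _ => h1 x)
  have key : ∀ x : F, x ∉ K → σ x = x := by
    intro x hx
    have hx0 : x ≠ 0 := by rintro rfl; exact hx (zero_mem K)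
    have hx1 : x + 1 ≠ 0 := by
      intro h1
      apply hx
      rw [eq_neg_of_add_eq_zero_left h1]
      exact neg_mem (one_mem K)
    have h1 := h x hx0
    have h2 := h (x + 1) hx1
    set c := σ x * x⁻¹ with hc
    set d := σ (x + 1) * (x + 1)⁻¹ with hd
    have e1 : σ x = c * x := by rw [hc, mul_assoc, inv_mul_cancel₀ hx0, mul_one]
    have e2 : σ x + 1 = d * (x + 1) := by
      rw [hd, mul_assoc, inv_mul_cancel₀ hx1, mul_one, map_add, map_one]
    have e3 : (c - d) * x = d - 1 := by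
      rw [e1] at e2
      linear_combination e2
    by_cases hcd : c - d = 0
    · rw [hcd, zero_mul] at e3
      have e4 : d = 1 := (sub_eq_zero.1 e3.symm)
      have e5 : c = 1 := by rw [sub_eq_zero.1 hcd, e4]
      rw [e1, e5, one_mul]
    · exfalso
      apply hx
      have e4 : x = (c - d)⁻¹ * (d - 1) := by rw [← e3, inv_mul_cancel_left₀ hcd]
      rw [e4]
      exact mul_mem (inv_mem_subring K (sub_mem h1 h2)) (sub_mem h2 (one_mem K))
  apply hσ
  ext k
  change σ k = k
  by_cases hk : k ∈ K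
  · have h1 : x₀ + k ∉ K := by
      intro h2
      apply hx₀
      have := sub_mem h2 hk
      rwa [add_sub_cancel_right] at this
    have h2 := key _ h1
    rw [map_add, key _ hx₀] at h2
    exact add_left_cancel h2
  · exact key k hk

theorem exists_pow_gen : ∃ g : F, g ≠ 0 ∧ ∀ x : F, x ≠ 0 → ∃ n : ℕ, x = g ^ n := by
  cases nonempty_fintype F
  obtain ⟨g, hg⟩ := IsCyclic.exists_generator (α := Fˣ)
  refine ⟨g, g.ne_zero, fun x hx => ?_⟩
  obtain ⟨n, hn⟩ := (mem_powers_iff_mem_zpowers.2 (hg (Units.mk0 x hx)))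
  refine ⟨n, ?_⟩
  have := congrArg (Units.val) hn
  simpa using this.symm

theorem exists_gen {σ : F ≃+* F} (hσ : σ ≠ RingEquiv.refl F) :
    ∃ s : F, s ≠ 0 ∧ s * (σ s)⁻¹ ≠ 1 ∧ Subring.closure {s * (σ s)⁻¹} = ⊤ ∧
      s⁻¹ * σ s ≠ 1 ∧ Subring.closure {s⁻¹ * σ s} = ⊤ := by
  obtain ⟨g, hs0, hpow⟩ := exists_pow_gen (F := F)
  have e1 : ∀ x : F, x ≠ 0 → ∃ n : ℕ, σ x * x⁻¹ = (g⁻¹ * σ g) ^ n := by
    intro x hx
    obtain ⟨n, rfl⟩ := hpow x hx
    refine ⟨n, ?_⟩
    rw [map_pow, mul_pow, inv_pow, mul_comm]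
  have hcl2 : Subring.closure {g⁻¹ * σ g} = ⊤ := by
    apply eq_top_of_lines hσ
    intro x hx
    obtain ⟨n, hn⟩ := e1 x hx
    rw [hn]
    exact pow_mem (Subring.subset_closure (Set.mem_singleton _)) _
  have hinv : g * (σ g)⁻¹ = (g⁻¹ * σ g)⁻¹ := by
    rw [mul_inv, inv_inv]
  have hcl1 : Subring.closure {g * (σ g)⁻¹} = ⊤ := by
    rw [eq_top_iff, ← hcl2, Subring.closure_le]
    intro z hz
    rw [Set.mem_singleton_iff] at hz
    have h1 : (g * (σ g)⁻¹)⁻¹ ∈ Subring.closure {g * (σ g)⁻¹} :=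
      inv_mem_subring _ (Subring.subset_closure (Set.mem_singleton _))
    have h2 : (g * (σ g)⁻¹)⁻¹ = z := by rw [hz, hinv, inv_inv]
    rw [← h2]
    exact h1
  have hne2 : g⁻¹ * σ g ≠ 1 := by
    intro h1
    apply hσ
    ext x
    change σ x = x
    by_cases hx : x = 0
    · rw [hx, map_zero]
    · obtain ⟨n, hn⟩ := e1 x hx
      rw [h1, one_pow, mul_inv_eq_one₀ hx] at hn
      exact hn
  refine ⟨g, hs0, ?_, hcl1, hne2, hcl2⟩
  rw [hinv]
  intro h1
  exact hne2 (inv_eq_one.1 h1)

omit [Finite F] in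
theorem exists_kappa {σ : F ≃+* F} (hσ : σ ≠ RingEquiv.refl F) : ∃ y : F, y - σ y ≠ 0 := by
  by_contra h
  push Not at h
  apply hσ
  ext x
  exact (sub_eq_zero.1 (h x)).symm

end Field

/-! ### The automorphism on root elements -/

variable {F V : Type*} [Field F] [AddCommGroup V] [Module F V] {Q : QuadraticForm F V}
variable {M : V ≃+ V} {σ : F ≃+* F} {c : F}

theorem conjE_S (hM : IsSemi Q M σ c) (u w : V) :
    conjE hM (S Q u w) = S Q (M u) (c⁻¹ • M w) := by
  by_cases h : Q u = 0 ∧ polar Q u w = 0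
  · have hu' : Q (M u) = 0 := by rw [hM.form, h.1, map_zero, mul_zero]
    have hw' : polar Q (M u) (c⁻¹ • M w) = 0 := by
      rw [polar_smul_right, hM.polar, h.2, map_zero, mul_zero, smul_zero]
    rw [S_eq h.1 h.2, S_eq hu' hw', conjE_sg hM h.1 h.2 hu' hw']
  · have h' : ¬ (Q (M u) = 0 ∧ polar Q (M u) (c⁻¹ • M w) = 0) := by
      rw [hM.form, polar_smul_right, hM.polar]
      simpa only [hM.ne, _root_.mul_eq_zero, _root_.EmbeddingLike.map_eq_zero_iff, _root_.false_or, _root_.smul_eq_mul, _root_.ne_eq, _root_.not_false_eq_true, _root_.inv_mul_cancel_left₀, _root_.not_and] using h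
    unfold S
    rw [dif_neg h, dif_neg h', map_one]

theorem conjE_S1 (hM : IsSemi Q M σ 1) (u w : V) : conjE hM (S Q u w) = S Q (M u) (M w) := by
  rw [conjE_S, inv_one, one_smul]

variable {e f : ℕ → V} {m : ℕ}

theorem conjE_X (hM : IsSemi Q M σ 1) (he : ∀ i, M (e i) = e i) (hf : ∀ i, M (f i) = f i)
    (i j : ℕ) (t : F) : conjE hM (X Q e f i j t) = X Q e f i j (σ t) := by
  unfold X
  rw [conjE_S1, hM.smul, he, hf]

theorem conjE_dd (hM : IsSemi Q M σ 1) (he : ∀ i, M (e i) = e i) (hf : ∀ i, M (f i) = f i)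
    (i j : ℕ) (s : F) : conjE hM (dd Q e f i j s) = dd Q e f i j (σ s) := by
  unfold dd
  simp only [map_mul, conjE_X hM he hf, map_neg, map_inv₀, map_one]

theorem conjE_T (hM : IsSemi Q M σ 1) (he : ∀ i, M (e i) = e i) (hf : ∀ i, M (f i) = f i)
    (n : ℕ) : ∀ (k : ℕ) (t : F), conjE hM (T Q e f n k t) = T Q e f n k (σ t) := by
  induction n with
  | zero => intro k t; exact map_one _
  | succ n ih =>
    intro k t
    change conjE hM (X Q e f (k + 1) k t * T Q e f n (k + 2) t) =
      X Q e f (k + 1) k (σ t) * T Q e f n (k + 2) (σ t)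
    rw [map_mul, conjE_X hM he hf, ih]

/-- the element attached to `w` -/
noncomputable def uw (Q : QuadraticForm F V) (e f : ℕ → V) (w : V) (y : F) : ↥(E Q) :=
  S Q (e 0) (y • w) * S Q (f 1) (y • w)

theorem conjE_uw (hM : IsSemi Q M σ 1) (he : ∀ i, M (e i) = e i) (hf : ∀ i, M (f i) = f i)
    {w : V} (hw : M w = w) (y : F) : conjE hM (uw Q e f w y) = uw Q e f w (σ y) := by
  unfold uw
  rw [map_mul, conjE_S1, conjE_S1, hM.smul, he, hf, hw]

/-- **ten conjugates of a field automorphism generate `E Q`** -/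
theorem reach_of_sys [Finite F] (hG : Good Q) (hM : IsSemi Q M σ 1) (hσ : σ ≠ RingEquiv.refl F)
    (h : Sys Q m e f) (hm : 3 ≤ m) (hodd : Odd m) {w : Fin 4 → V}
    (hwe : ∀ i j, polar Q (e i) (w j) = 0) (hwf : ∀ i j, polar Q (f i) (w j) = 0)
    (hspan : Submodule.span F (Set.range e ∪ Set.range f ∪ Set.range w) = ⊤)
    {j j' : Fin 4} (hjj : polar Q (w j) (w j') ≠ 0) (he : ∀ i, M (e i) = e i)
    (hf : ∀ i, M (f i) = f i) (hw : ∀ i, M (w i) = w i) : Reach₁ (conjE hM) 9 (⊤ : Subgroup ↥(E Q)) := by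
  obtain ⟨s, hs0, hτ1, hτ, hτ1', hτ'⟩ := exists_gen hσ
  obtain ⟨y, hy⟩ := exists_kappa hσ
  set κ := y - σ y with hκdef
  have hκσ : y = κ + σ y := by rw [hκdef]; ring
  have hσs : σ s ≠ 0 := by simpa using hs0
  let u : Fin 9 → ↥(E Q) := ![dd Q e f 0 (m - 1) s, T Q e f m 0 y, T Q e f m 1 y, T Q f e m 0 y,
    T Q f e m 1 y, uw Q e f (w 0) y, uw Q e f (w 1) y, uw Q e f (w 2) y, uw Q e f (w 3) y]
  set H := Subgroup.closure (Set.range fun i => u i * (conjE hM (u i))⁻¹) with hH
  have hmem : ∀ i, u i * (conjE hM (u i))⁻¹ ∈ H := fun i => Subgroup.subset_closure ⟨i, rfl⟩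
  have h0m : (0 : ℕ) ≠ m - 1 := by omega
  -- the torus element
  have hD : dd Q e f 0 (m - 1) s * (dd Q e f 0 (m - 1) (σ s))⁻¹ ∈ H := by
    have := hmem 0
    change dd Q e f 0 (m - 1) s * (conjE hM (dd Q e f 0 (m - 1) s))⁻¹ ∈ H at this
    rwa [conjE_dd hM he hf] at this
  have hT : ∀ {e f : ℕ → V} (h : Sys Q m e f) (he : ∀ i, M (e i) = e i) (hf : ∀ i, M (f i) = f i) (k : ℕ),
      T Q e f m k y * (conjE hM (T Q e f m k y))⁻¹ = T Q e f m k κ := by
    intro e f h he hf k
    rw [conjE_T hM he hf, T_inv h, ← T_add h, ← sub_eq_add_neg]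
  have hT0 : T Q e f m 0 κ ∈ H := by
    rw [← hT h he hf 0]
    exact hmem 1
  have hT1 : T Q e f m 1 κ ∈ H := by
    rw [← hT h he hf 1]
    exact hmem 2
  have hT0' : T Q f e m 0 κ ∈ H := by
    rw [← hT h.symm hf he 0]
    exact hmem 3
  have hT1' : T Q f e m 1 κ ∈ H := by
    rw [← hT h.symm hf he 1]
    exact hmem 4
  have hDe : ∀ i, i ≠ 0 → i ≠ m - 1 →
      ap (dd Q e f 0 (m - 1) s * (dd Q e f 0 (m - 1) (σ s))⁻¹) (e i) = e i := by
    intro i h1 h2
    rw [ap_mul, ap_inv_of (dd_e h h0m h1 h2 (σ s)), dd_e h h0m h1 h2]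
  have hDf : ∀ i, i ≠ 0 → i ≠ m - 1 →
      ap (dd Q e f 0 (m - 1) s * (dd Q e f 0 (m - 1) (σ s))⁻¹) (f i) = f i := by
    intro i h1 h2
    rw [ap_mul, ap_inv_of (dd_f h h0m h1 h2 (σ s)), dd_f h h0m h1 h2]
  obtain ⟨m', hm'⟩ := hodd
  have hP := all_P h (by omega) hD hτ1' hτ1 hτ' hτ
    (fun i hi => hDe _ (by omega) (by obtain ⟨a, ha⟩ := hi; omega))
    (fun i hi hi2 => by
      by_cases h1 : i = m - 1
      · exact Or.inr (h.ze _ (by omega))
      · exact Or.inl (hDf _ (by omega) h1))
    (by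
      rw [ap_mul, ap_inv_smul (inv_ne_zero hσs) (dd_fi h h0m (by omega) (by omega) hσs), inv_inv, ap_smul,
        dd_fi h h0m (by omega) (by omega) hs0, smul_smul, mul_comm])
    (fun i hi => hDf _ (by omega) (by obtain ⟨a, ha⟩ := hi; omega))
    (fun i hi hi2 => by
      by_cases h1 : i = m - 1
      · exact Or.inr (h.zf _ (by omega))
      · exact Or.inl (hDe _ (by omega) h1))
    (by
      rw [ap_mul, ap_inv_smul hσs (dd_ei h h0m (by omega) (by omega) hσs), ap_smul,
        dd_ei h h0m (by omega) (by omega) hs0, smul_smul, mul_comm])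
    hy (n := m) (by omega) hT0 hT1 hT0' hT1'
  -- the last elements
  have hwi : ∀ i, uw Q e f (w i) y * (uw Q e f (w i) (σ y))⁻¹ ∈ H := by
    intro i
    fin_cases i
    · have := hmem 5
      change uw Q e f (w 0) y * (conjE hM (uw Q e f (w 0) y))⁻¹ ∈ H at this
      rwa [conjE_uw hM he hf (hw 0)] at this
    · have := hmem 6
      change uw Q e f (w 1) y * (conjE hM (uw Q e f (w 1) y))⁻¹ ∈ H at this
      rwa [conjE_uw hM he hf (hw 1)] at this
    · have := hmem 7
      change uw Q e f (w 2) y * (conjE hM (uw Q e f (w 2) y))⁻¹ ∈ H at this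
      rwa [conjE_uw hM he hf (hw 2)] at this
    · have := hmem 8
      change uw Q e f (w 3) y * (conjE hM (uw Q e f (w 3) y))⁻¹ ∈ H at this
      rwa [conjE_uw hM he hf (hw 3)] at this
  have hlast : ∀ i, S Q (e 0) (κ • w i) * S Q (f 1) (κ • w i) ∈ H := by
    intro i
    have pe : ∀ (k : ℕ) (t : F), polar Q (e k) (t • w i) = 0 := fun k t => by
      rw [polar_smul_right, hwe, smul_zero]
    have pf : ∀ (k : ℕ) (t : F), polar Q (f k) (t • w i) = 0 := fun k t => by
      rw [polar_smul_right, hwf, smul_zero]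
    set g := S Q (e 0) (σ y • w i) with hg
    set b := -(κ * (σ y * polar Q (w i) (w i))) with hb
    have h1 : S Q (e 0) (y • w i) = S Q (e 0) (κ • w i) * g := by
      rw [hg, ← S_add (h.qe 0) (pe _ _) (pe _ _), ← add_smul, ← hκσ]
    have h2 : S Q (f 1) (y • w i) * (S Q (f 1) (σ y • w i))⁻¹ = S Q (f 1) (κ • w i) := by
      rw [S_inv (h.qf 1) (pf _ _), ← S_add (h.qf 1) (pf _ _) (by rw [polar_neg_right, pf, neg_zero]),
        ← sub_eq_add_neg, ← sub_smul]
    have h3 : g * S Q (f 1) (κ • w i) * g⁻¹ = S Q (f 1) (κ • w i) * X Q f e 1 0 b := by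
      have q1 : ap g (f 1) = f 1 := by
        rw [hg]
        apply S_fix (h.qe 0) (pe _ _) (h.ef 0 1 (by norm_num))
        rw [polar_smul_left, polar_comm, hwf, smul_zero]
      have q2 : ap g (κ • w i) = κ • w i + b • e 0 := by
        rw [hg, S_ap (h.qe 0) (pe _ _), pe, polar_smul_left, polar_smul_right, hb]
        simp only [smul_eq_mul]
        module
      have q3 : polar Q (f 1) (b • e 0) = 0 := by
        rw [polar_smul_right, h.fe (by norm_num), smul_zero]
      rw [S_conj, q1, q2, S_add (h.qf 1) (pf _ _) q3]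
      rfl
    have h4 : uw Q e f (w i) y * (uw Q e f (w i) (σ y))⁻¹ =
        S Q (e 0) (κ • w i) * (S Q (f 1) (κ • w i) * X Q f e 1 0 b) := by
      unfold uw
      rw [← h3, h1, ← h2, ← hg]
      group
    have h5 : X Q f e 1 0 b ∈ H := P_symm h hP 1 0 (by omega) (by omega) (by norm_num) b
    have h6 := mul_mem (hwi i) (inv_mem h5)
    rw [h4] at h6
    have h7 : S Q (e 0) (κ • w i) * (S Q (f 1) (κ • w i) * X Q f e 1 0 b) * (X Q f e 1 0 b)⁻¹ =
        S Q (e 0) (κ • w i) * S Q (f 1) (κ • w i) := by group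
    rwa [h7] at h6
  have hτ0 : s * (σ s)⁻¹ ≠ 0 := mul_ne_zero hs0 (inv_ne_zero hσs)
  have htop : H = ⊤ := eq_top hG h hm hwe hwf hspan hP hjj hy hτ0 hτ1 hlast
  rw [← htop]
  exact Reach₁.comm (conjE hM) u

end Cfsg.Agent.H989.Gs.Semi

/-!
# Galois descent for semilinear maps of finite order

`σ : F ≃+* F` of order `p`, `M : V ≃+ V` with `M (a • v) = σ a • M v`.

* `exists_norm` : elements fixed by `σ` are norms `∏_{i < p} σ^i b` (`F` finite);
* `iterate_smul` : `(b M)^n = (∏_{i<n} σ^i b) M^n`;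
* `exists_normalize` : if `M^p = λ` is scalar, some `b • M` has `(b M)^p = 1`;
* `span_fixed` : if `M^p = 1`, the fixed vectors span every invariant subspace.
-/


namespace Cfsg.Agent.H989.Gs.Desc

section Field

variable {F : Type*} [Field F]

theorem exists_norm [Finite F] (σ : RingAut F) {a : F} (ha : σ a = a) :
    ∃ b : F, ∏ i ∈ Finset.range (orderOf σ), (σ ^ i) b = a := by
  classical
  have hfin : Finite (RingAut F) := by
    have : Function.Injective (fun τ : RingAut F => (τ : F → F)) := fun τ ρ h => by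
      ext x
      exact congrFun h x
    exact Finite.of_injective _ this
  let G := Subgroup.zpowers σ
  have : Fintype G := Fintype.ofFinite G
  have hfaith : FaithfulSMul G F := ⟨fun {g h} H => by
    apply Subtype.ext
    ext x
    exact H x⟩
  let K := FixedPoints.subfield G F
  have haK : a ∈ K := by
    intro g
    obtain ⟨g, n, rfl⟩ := g
    change (σ ^ n) a = a
    have h1 : ∀ n : ℕ, (σ ^ n) a = a := by
      intro n
      induction n with
      | zero => rfl
      | succ n ih => rw [pow_succ, RingAut.mul_apply, ha, ih]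
    obtain ⟨n, rfl | rfl⟩ := n.eq_nat_or_neg
    · rw [zpow_natCast]
      exact h1 n
    · rw [zpow_neg, zpow_natCast]
      conv_lhs => rw [← h1 n]
      exact RingEquiv.symm_apply_apply (σ ^ n) a
  obtain ⟨b, hb⟩ := FiniteField.norm_surjective K F ⟨a, haK⟩
  refine ⟨b, ?_⟩
  have h2 : algebraMap K F (Algebra.norm K b) = ∏ τ : (F ≃ₐ[K] F), τ b :=
    Algebra.norm_eq_prod_automorphisms K b
  rw [hb] at h2
  have h3 : ∏ τ : (F ≃ₐ[K] F), τ b = ∏ g : G, (g : RingAut F) b := by
    refine (Fintype.prod_equiv (FixedPoints.toAlgAutMulEquiv G F).toEquiv _ _ fun g => ?_).symm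
    rfl
  rw [h3] at h2
  have h4 : ∏ g : G, (g : RingAut F) b = ∏ i ∈ Finset.range (orderOf σ), (σ ^ i) b := by
    rw [Finset.prod_range]
    refine (Fintype.prod_equiv (finEquivZPowers (isOfFinOrder_of_finite σ)) _ _ fun i => ?_).symm
    rfl
  rw [h4] at h2
  exact h2.symm

/-- Dedekind independence -/
theorem dedekind {p : ℕ} (σ : RingAut F) (hp : p ≤ orderOf σ) (a : ℕ → F)
    (h : ∀ z : F, ∑ i ∈ Finset.range p, a i * (σ ^ i) z = 0) : ∀ i, i < p → a i = 0 := by
  classical
  have h1 := linearIndependent_monoidHom F F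
  let g : Fin p → (F →* F) := fun i => ((σ ^ (i : ℕ) : RingAut F) : F ≃+* F).toMonoidHom
  have hg : Function.Injective g := by
    intro i j hij
    have h2 : σ ^ (i : ℕ) = σ ^ (j : ℕ) := by
      ext x
      exact DFunLike.congr_fun hij x
    exact Fin.ext (pow_injOn_Iio_orderOf (lt_of_lt_of_le i.2 hp) (lt_of_lt_of_le j.2 hp) h2)
  have h2 := h1.comp g hg
  rw [Fintype.linearIndependent_iff] at h2
  intro i hi
  refine h2 (fun i => a i) ?_ ⟨i, hi⟩
  ext z
  have h3 := h z
  rw [Finset.sum_range] at h3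
  simp only [Finset.sum_apply, Pi.smul_apply, Function.comp_apply, smul_eq_mul, Pi.zero_apply]
  exact h3

end Field

section

variable {F V : Type*} [Field F] [AddCommGroup V] [Module F V] {M : V ≃+ V} {σ : RingAut F}

theorem iterate_smul' (hM : ∀ (a : F) v, M (a • v) = σ a • M v) (n : ℕ) (a : F) (v : V) :
    M^[n] (a • v) = (σ ^ n) a • M^[n] v := by
  induction n generalizing a v with
  | zero => rfl
  | succ n ih =>
    rw [Function.iterate_succ_apply, hM, ih, Function.iterate_succ_apply, pow_succ, RingAut.mul_apply]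

/-- multiplication of `M` by a scalar -/
def sm (b : Fˣ) (M : V ≃+ V) : V ≃+ V :=
  M.trans (DistribMulAction.toAddEquiv V b)

theorem sm_apply (b : Fˣ) (M : V ≃+ V) (v : V) : sm b M v = (b : F) • M v := rfl

theorem sm_iterate (hM : ∀ (a : F) v, M (a • v) = σ a • M v) (b : Fˣ) (n : ℕ) (v : V) :
    (sm b M)^[n] v = (∏ i ∈ Finset.range n, (σ ^ i) (b : F)) • M^[n] v := by
  induction n with
  | zero => rw [Finset.range_zero, Finset.prod_empty, one_smul]; rfl
  | succ n ih =>
    rw [Function.iterate_succ_apply', ih, sm_apply, hM, Function.iterate_succ_apply', smul_smul,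
      Finset.prod_range_succ']
    congr 1
    rw [map_prod, pow_zero, RingAut.one_apply, mul_comm]
    congr 1
    refine Finset.prod_congr rfl fun i _ => ?_
    rw [pow_succ', RingAut.mul_apply]

theorem exists_normalize [Finite F] (hM : ∀ (a : F) v, M (a • v) = σ a • M v) {l : F} (hl : l ≠ 0)
    (hMl : ∀ v, M^[orderOf σ] v = l • v) {v₀ : V} (hv₀ : v₀ ≠ 0) :
    ∃ b : Fˣ, ∀ v, (sm b M)^[orderOf σ] v = v := by
  have h1 : σ l = l := by
    have h2 : M (M^[orderOf σ] v₀) = M^[orderOf σ] (M v₀) :=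
      (Function.iterate_succ_apply' M _ v₀).symm.trans (Function.iterate_succ_apply M _ v₀)
    rw [hMl, hMl, hM] at h2
    have h3 : M v₀ ≠ 0 := by simpa using hv₀
    have h4 : (σ l - l) • M v₀ = 0 := by rw [sub_smul, h2, sub_self]
    rcases smul_eq_zero.1 h4 with h5 | h5
    · exact sub_eq_zero.1 h5
    · exact absurd h5 h3
  have h2 : σ l⁻¹ = l⁻¹ := by rw [map_inv₀, h1]
  obtain ⟨b, hb⟩ := exists_norm σ h2
  have hb0 : b ≠ 0 := by
    rintro rfl
    have h3 : ∏ i ∈ Finset.range (orderOf σ), (σ ^ i) (0 : F) = 0 := by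
      have hfin : Finite (RingAut F) := by
        have : Function.Injective (fun τ : RingAut F => (τ : F → F)) := fun τ ρ h => by
          ext x
          exact congrFun h x
        exact Finite.of_injective _ this
      exact Finset.prod_eq_zero (Finset.mem_range.2 (orderOf_pos σ)) (map_zero _)
    rw [h3] at hb
    exact inv_ne_zero hl hb.symm
  refine ⟨Units.mk0 b hb0, fun v => ?_⟩
  rw [sm_iterate hM, Units.val_mk0, hb, hMl, smul_smul, inv_mul_cancel₀ hl, one_smul]

/-- **the fixed vectors span** -/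
theorem span_fixed (hM : ∀ (a : F) v, M (a • v) = σ a • M v) {p : ℕ} (hp : p = orderOf σ) (hp0 : 0 < p)
    (hMp : ∀ v, M^[p] v = v) {U : Submodule F V} (hU : ∀ u ∈ U, M u ∈ U) :
    Submodule.span F {v | v ∈ U ∧ M v = v} = U := by
  apply le_antisymm
  · rw [Submodule.span_le]
    rintro v ⟨hv, -⟩
    exact hv
  · intro v hv
    by_contra hcon
    obtain ⟨φ, hφv, hφ⟩ := Submodule.exists_le_ker_of_notMem hcon
    have hUi : ∀ n, ∀ u ∈ U, M^[n] u ∈ U := by
      intro n
      induction n with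
      | zero => intro u hu; exact hu
      | succ n ih => intro u hu; rw [Function.iterate_succ_apply]; exact ih _ (hU u hu)
    have key : ∀ z : F, ∑ i ∈ Finset.range p, φ (M^[i] v) * (σ ^ i) z = 0 := by
      intro z
      set x := ∑ i ∈ Finset.range p, M^[i] (z • v) with hx
      have hxU : x ∈ U := by
        rw [hx]
        exact sum_mem fun i _ => hUi i _ (U.smul_mem _ hv)
      have hxM : M x = x := by
        rw [hx, map_sum]
        have h1 : ∀ i ∈ Finset.range p, M (M^[i] (z • v)) = M^[i + 1] (z • v) := by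
          intro i _
          rw [Function.iterate_succ_apply']
        rw [Finset.sum_congr rfl h1]
        have h2 := Finset.sum_range_succ' (fun i => M^[i] (z • v)) p
        have h3 := Finset.sum_range_succ (fun i => M^[i] (z • v)) p
        rw [h2, hMp] at h3
        exact add_right_cancel h3
      have h2 : φ x = 0 := LinearMap.mem_ker.1 (hφ (Submodule.subset_span ⟨hxU, hxM⟩))
      rw [hx, map_sum] at h2
      rw [← h2]
      refine Finset.sum_congr rfl fun i _ => ?_
      rw [iterate_smul' hM, map_smul, smul_eq_mul, mul_comm]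
    have h1 := dedekind σ hp.le (fun i => φ (M^[i] v)) key 0 hp0
    exact hφv h1

end

end Cfsg.Agent.H989.Gs.Desc

/-!
# Frames fixed by a field automorphism
-/


namespace Cfsg.Agent.H989.Gs.Frame

open QuadraticMap Cfsg.Agent.LieClassical.OrthCore Cfsg.Agent.LieClassical.OrthTrans
  Cfsg.Agent.LieClassical.OrthSimple Cfsg.Agent.AutOrth.SemiSim Cfsg.Agent.AutOrth.Gen
  Cfsg.Agent.H989.Gs.Gen Cfsg.Agent.H989.Gs.Semi Cfsg.Agent.H989.Gs.Desc Cfsg.Agent.H915.Gs

variable {F V : Type*} [Field F] [AddCommGroup V] [Module F V] {Q : QuadraticForm F V}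
variable {M : V ≃+ V} {σ : RingAut F}

/-- the space orthogonal to a system -/
def U (Q : QuadraticForm F V) (e f : ℕ → V) : Submodule F V where
  carrier := {v | ∀ i, polar Q (e i) v = 0 ∧ polar Q (f i) v = 0}
  add_mem' := by
    intro v w hv hw i
    rw [polar_add_right, polar_add_right, (hv i).1, (hw i).1, (hv i).2, (hw i).2]
    simp
  zero_mem' := by intro i; simp
  smul_mem' := by
    intro a v hv i
    rw [polar_smul_right, polar_smul_right, (hv i).1, (hv i).2]
    simp

variable {e f : ℕ → V} {k : ℕ}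

theorem mem_U {v : V} : v ∈ U Q e f ↔ ∀ i, polar Q (e i) v = 0 ∧ polar Q (f i) v = 0 := Iff.rfl

/-- the projection -/
noncomputable def pr (Q : QuadraticForm F V) (e f : ℕ → V) (k : ℕ) (v : V) : V :=
  v - ∑ i ∈ Finset.range k, (polar Q (f i) v • e i + polar Q (e i) v • f i)

theorem polar_sum_right (x : V) (s : Finset ℕ) (g : ℕ → V) :
    polar Q x (∑ i ∈ s, g i) = ∑ i ∈ s, polar Q x (g i) := by
  change polarBilin Q x (∑ i ∈ s, g i) = _
  rw [map_sum]
  rfl

theorem pr_mem (h : Sys Q k e f) (v : V) : pr Q e f k v ∈ U Q e f := by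
  intro i
  unfold pr
  rw [polar_sub_right, polar_sub_right, polar_sum_right, polar_sum_right]
  constructor
  · by_cases hi : i < k
    · rw [Finset.sum_eq_single_of_mem i (Finset.mem_range.2 hi)]
      · rw [polar_add_right, polar_smul_right, polar_smul_right, h.ee, h.one i hi]
        simp
      · intro j _ hj
        rw [polar_add_right, polar_smul_right, polar_smul_right, h.ee, h.ef i j hj.symm]
        simp
    · rw [h.ze i (by omega)]
      simp
  · by_cases hi : i < k
    · rw [Finset.sum_eq_single_of_mem i (Finset.mem_range.2 hi)]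
      · rw [polar_add_right, polar_smul_right, polar_smul_right, h.ff, h.symm.one i hi]
        simp
      · intro j _ hj
        rw [polar_add_right, polar_smul_right, polar_smul_right, h.ff, h.fe hj.symm]
        simp
    · rw [h.zf i (by omega)]
      simp

theorem sum_mem (Q : QuadraticForm F V) (e f : ℕ → V) (k : ℕ) (v : V) :
    ∑ i ∈ Finset.range k, (polar Q (f i) v • e i + polar Q (e i) v • f i) ∈
      Submodule.span F (Set.range e ∪ Set.range f) :=
  _root_.sum_mem fun i _ => add_mem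
    (Submodule.smul_mem _ _ (Submodule.subset_span (Or.inl ⟨i, rfl⟩)))
    (Submodule.smul_mem _ _ (Submodule.subset_span (Or.inr ⟨i, rfl⟩)))

theorem span_sup (h : Sys Q k e f) : Submodule.span F (Set.range e ∪ Set.range f) ⊔ U Q e f = ⊤ := by
  rw [eq_top_iff]
  intro v _
  have h1 : v = ∑ i ∈ Finset.range k, (polar Q (f i) v • e i + polar Q (e i) v • f i) + pr Q e f k v := by
    unfold pr
    abel
  rw [h1]
  exact Submodule.add_mem_sup (sum_mem Q e f k v) (pr_mem h v)

theorem nondeg_U (hQ : Nondeg Q) (h : Sys Q k e f) {u : V} (hu : u ∈ U Q e f)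
    (H : ∀ v ∈ U Q e f, polar Q u v = 0) : u = 0 := by
  apply hQ
  intro v
  have h1 : v = ∑ i ∈ Finset.range k, (polar Q (f i) v • e i + polar Q (e i) v • f i) + pr Q e f k v := by
    unfold pr
    abel
  rw [h1, polar_add_right, H _ (pr_mem h v), add_zero, polar_sum_right]
  apply Finset.sum_eq_zero
  intro i _
  rw [polar_add_right, polar_smul_right, polar_smul_right, polar_comm Q u, polar_comm Q u, (hu i).1, (hu i).2]
  simp

theorem finrank_U [FiniteDimensional F V] (h : Sys Q k e f) :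
    Module.finrank F (U Q e f) + 2 * k = Module.finrank F V := by
  let L : V →ₗ[F] (Fin k → F) × (Fin k → F) :=
    (LinearMap.pi fun i : Fin k => polarBilin Q (e i)).prod (LinearMap.pi fun i : Fin k => polarBilin Q (f i))
  have hL : ∀ v, L v = (fun i : Fin k => polar Q (e i) v, fun i : Fin k => polar Q (f i) v) := fun v => rfl
  have hker : LinearMap.ker L = U Q e f := by
    ext v
    rw [LinearMap.mem_ker, hL, mem_U]
    constructor
    · intro hv i
      by_cases hi : i < k
      · have h1 := congrFun (congrArg Prod.fst hv) ⟨i, hi⟩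
        have h2 := congrFun (congrArg Prod.snd hv) ⟨i, hi⟩
        exact ⟨h1, h2⟩
      · rw [h.ze i (by omega), h.zf i (by omega)]
        simp
    · intro hv
      ext i
      · exact (hv i).1
      · exact (hv i).2
  have hrange : LinearMap.range L = ⊤ := by
    rw [eq_top_iff]
    rintro ⟨a, b⟩ _
    refine ⟨∑ i : Fin k, (a i • f i + b i • e i), ?_⟩
    rw [hL]
    have hsum : ∀ x : V, polar Q x (∑ i : Fin k, (a i • f i + b i • e i)) =
        ∑ i : Fin k, (a i * polar Q x (f i) + b i * polar Q x (e i)) := by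
      intro x
      change polarBilin Q x (∑ i : Fin k, (a i • f i + b i • e i)) = _
      rw [map_sum]
      refine Finset.sum_congr rfl fun i _ => ?_
      change polar Q x _ = _
      rw [polar_add_right, polar_smul_right, polar_smul_right]
      rfl
    ext i
    · simp only
      rw [hsum, Finset.sum_eq_single i]
      · rw [h.ee, h.one i i.2]
        simp
      · intro j _ hj
        rw [h.ee, h.ef i j (fun h0 => hj (Fin.ext h0.symm))]
        simp
      · intro h0
        exact absurd (Finset.mem_univ i) h0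
    · simp only
      rw [hsum, Finset.sum_eq_single i]
      · rw [h.ff, h.symm.one i i.2]
        simp
      · intro j _ hj
        rw [h.ff, h.fe (fun h0 => hj (Fin.ext h0.symm))]
        simp
      · intro h0
        exact absurd (Finset.mem_univ i) h0
  have h1 := LinearMap.finrank_range_add_finrank_ker L
  rw [hker, hrange, finrank_top, Module.finrank_prod, Module.finrank_fin_fun] at h1
  omega

/-! ### Fixed vectors -/

theorem fix_polar (hM : IsSemi Q M σ 1) {v w : V} (hv : M v = v) (hw : M w = w) :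
    σ (polar Q v w) = polar Q v w := by
  have := hM.polar v w
  rw [hv, hw, one_mul] at this
  exact this.symm

theorem fix_Q (hM : IsSemi Q M σ 1) {v : V} (hv : M v = v) : σ (Q v) = Q v := by
  have := hM.form v
  rw [hv, one_mul] at this
  exact this.symm

/-- the fixed field -/
def F0 (σ : RingAut F) : Subfield F := (σ : F →+* F).eqLocusField (RingHom.id F)

theorem mem_F0 {x : F} : x ∈ F0 σ ↔ σ x = x := Iff.rfl

theorem exists_fix_basis [FiniteDimensional F V] {s : Set V} {W : Submodule F V} {r : ℕ}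
    (hs : Submodule.span F s = W) (hr : r = Module.finrank F W) : ∃ g : Fin r → V, (∀ i, g i ∈ s) ∧
      Submodule.span F (Set.range g) = W ∧ LinearIndependent F g := by
  subst hs hr
  exact Submodule.exists_fun_fin_finrank_span_eq F s

theorem exists_sing [Finite F] [FiniteDimensional F V] (hM : IsSemi Q M σ 1) {p : ℕ} (hp : p = orderOf σ)
    (hp0 : 0 < p) (hMp : ∀ v, M^[p] v = v) {W : Submodule F V} (hW : ∀ u ∈ W, M u ∈ W)
    (h3 : 3 ≤ Module.finrank F W) : ∃ x ∈ W, x ≠ 0 ∧ M x = x ∧ Q x = 0 := by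
  have hs := span_fixed hM.smul hp hp0 hMp hW
  obtain ⟨g, hg, -, hli⟩ := exists_fix_basis hs rfl
  let v : Fin 3 → V := fun i => g (Fin.castLE h3 i)
  have hv : ∀ i, v i ∈ W ∧ M (v i) = v i := fun i => hg _
  have hvl : LinearIndependent F v := hli.comp _ (Fin.castLE_injective h3)
  have q : ∀ i, Q (v i) ∈ F0 σ := fun i => fix_Q hM (hv i).2
  have b : ∀ i j, polar Q (v i) (v j) ∈ F0 σ := fun i j => fix_polar hM (hv i).2 (hv j).2
  obtain ⟨x, hx0, hx⟩ := Cfsg.Agent.LieClassical.OrthFinite.exists_ternary_zero (F := F0 σ) ⟨_, q 0⟩ ⟨_, q 1⟩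
    ⟨_, q 2⟩ ⟨_, b 0 1⟩ ⟨_, b 0 2⟩ ⟨_, b 1 2⟩
  have hx' := congrArg (Subtype.val) hx
  simp only [Subfield.coe_add, Subfield.coe_mul, SubmonoidClass.coe_pow, Subfield.coe_zero] at hx'
  refine ⟨(x 0 : F) • v 0 + (x 1 : F) • v 1 + (x 2 : F) • v 2, ?_, ?_, ?_, ?_⟩
  · exact add_mem (add_mem (W.smul_mem _ (hv 0).1) (W.smul_mem _ (hv 1).1)) (W.smul_mem _ (hv 2).1)
  · intro h0
    apply hx0
    have h1 := (Fintype.linearIndependent_iff.1 hvl) (fun i => (x i : F)) (by
      rw [Fin.sum_univ_three]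
      exact h0)
    ext i
    exact h1 i
  · rw [map_add, map_add, hM.smul, hM.smul, hM.smul, (hv 0).2, (hv 1).2, (hv 2).2, mem_F0.1 (x 0).2,
      mem_F0.1 (x 1).2, mem_F0.1 (x 2).2]
  · rw [Q_add, Q_add, QuadraticMap.map_smul, QuadraticMap.map_smul, QuadraticMap.map_smul, polar_add_left,
      polar_smul_left, polar_smul_left, polar_smul_left, polar_smul_right, polar_smul_right,
      polar_smul_right]
    simp only [smul_eq_mul]
    rw [← hx']
    ring

theorem exists_pair [Finite F] [FiniteDimensional F V] (hM : IsSemi Q M σ 1) {p : ℕ} (hp : p = orderOf σ)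
    (hp0 : 0 < p) (hMp : ∀ v, M^[p] v = v) {W : Submodule F V} (hW : ∀ u ∈ W, M u ∈ W)
    (h3 : 3 ≤ Module.finrank F W) (hnd : ∀ u ∈ W, (∀ v ∈ W, polar Q u v = 0) → u = 0) :
    ∃ x ∈ W, ∃ y ∈ W, M x = x ∧ M y = y ∧ Hyp Q x y := by
  obtain ⟨x, hxW, hx0, hMx, hQx⟩ := exists_sing hM hp hp0 hMp hW h3
  have hs := span_fixed hM.smul hp hp0 hMp hW
  obtain ⟨z, hz, hMz, hxz⟩ : ∃ z ∈ W, M z = z ∧ polar Q x z ≠ 0 := by
    by_contra hcon
    push Not at hcon
    apply hx0
    apply hnd x hxW
    intro v hv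
    rw [← hs] at hv
    induction hv using Submodule.span_induction with
    | mem v hv => exact hcon v hv.1 hv.2
    | zero => simp
    | add a b _ _ ha hb => rw [polar_add_right, ha, hb, add_zero]
    | smul a b _ hb => rw [polar_smul_right, hb, smul_zero]
  set a := polar Q x z with ha
  have hσa : σ a = a := fix_polar hM hMx hMz
  have hMz' : M (a⁻¹ • z) = a⁻¹ • z := by rw [hM.smul, map_inv₀, hσa, hMz]
  have hpz : polar Q x (a⁻¹ • z) = 1 := by rw [polar_smul_right, ← ha, smul_eq_mul, inv_mul_cancel₀ hxz]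
  have hσq : σ (Q (a⁻¹ • z)) = Q (a⁻¹ • z) := fix_Q hM hMz'
  refine ⟨x, hxW, a⁻¹ • z - Q (a⁻¹ • z) • x, sub_mem (W.smul_mem _ hz) (W.smul_mem _ hxW), hMx, ?_, ?_⟩
  · rw [map_sub, hMz', hM.smul, hσq, hMx]
  · refine ⟨hQx, ?_, ?_⟩
    · rw [sub_eq_add_neg, ← neg_smul, Q_add, QuadraticMap.map_smul (a := -Q (a⁻¹ • z)), polar_smul_right, polar_comm Q (a⁻¹ • z) x, hpz, hQx]
      simp only [_root_.mul_neg, _root_.neg_mul, _root_.neg_neg, _root_.smul_eq_mul, _root_.MulZeroClass.mul_zero, _root_.add_zero, _root_.mul_one, _root_.add_neg_cancel]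
    · rw [polar_sub_right, hpz, polar_smul_right, polar_self_of_sing hQx, smul_zero, sub_zero]

theorem exists_sys [Finite F] [FiniteDimensional F V] (hQ : Nondeg Q) (hM : IsSemi Q M σ 1) {p : ℕ}
    (hp : p = orderOf σ) (hp0 : 0 < p) (hMp : ∀ v, M^[p] v = v) (k : ℕ)
    (hk : 2 * k + 1 ≤ Module.finrank F V) :
    ∃ e f : ℕ → V, Sys Q k e f ∧ (∀ i, M (e i) = e i) ∧ ∀ i, M (f i) = f i := by
  induction k with
  | zero =>
    refine ⟨fun _ => 0, fun _ => 0, ?_, fun _ => map_zero M, fun _ => map_zero M⟩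
    constructor <;> intros <;> simp_all only [_root_.orderOf_pos_iff, _root_.MulZeroClass.mul_zero, _root_.zero_add, _root_.map_zero, _root_.QuadraticMap.polar_self, _root_.nsmul_zero, _root_.ne_eq, _root_.not_lt_zero, _root_.zero_le]
  | succ k ih =>
    obtain ⟨e, f, h, he, hf⟩ := ih (by omega)
    have hr := finrank_U h
    obtain ⟨x, hx, y, hy, hMx, hMy, hxy⟩ := exists_pair hM hp hp0 hMp (W := U Q e f)
      (fun u hu i => by
        have h1 := hM.polar (e i) u
        have h2 := hM.polar (f i) u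
        rw [he, (hu i).1, map_zero, mul_zero] at h1
        rw [hf, (hu i).2, map_zero, mul_zero] at h2
        exact ⟨h1, h2⟩) (by omega) (fun u hu H => nondeg_U hQ h hu H)
    have hx' := mem_U.1 hx
    have hy' := mem_U.1 hy
    have u1 : ∀ i, i ≠ k → Function.update e k x i = e i := fun i hi => Function.update_of_ne hi _ _
    have u2 : ∀ i, i ≠ k → Function.update f k y i = f i := fun i hi => Function.update_of_ne hi _ _
    have u3 : Function.update e k x k = x := Function.update_self _ _ _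
    have u4 : Function.update f k y k = y := Function.update_self _ _ _
    refine ⟨Function.update e k x, Function.update f k y, ?_, ?_, ?_⟩
    · constructor
      · intro i
        by_cases hi : i = k
        · subst hi; rw [u3]; exact hxy.left
        · rw [u1 i hi]; exact h.qe i
      · intro i
        by_cases hi : i = k
        · subst hi; rw [u4]; exact hxy.right
        · rw [u2 i hi]; exact h.qf i
      · intro i j
        by_cases hi : i = k
        · subst hi
          by_cases hj : j = i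
          · subst hj; rw [u3]; exact polar_self_of_sing hxy.left
          · rw [u3, u1 j hj, polar_comm]; exact (hx' j).1
        · by_cases hj : j = k
          · subst hj; rw [u3, u1 i hi]; exact (hx' i).1
          · rw [u1 i hi, u1 j hj]; exact h.ee i j
      · intro i j
        by_cases hi : i = k
        · subst hi
          by_cases hj : j = i
          · subst hj; rw [u4]; exact polar_self_of_sing hxy.right
          · rw [u4, u2 j hj, polar_comm]; exact (hy' j).2
        · by_cases hj : j = k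
          · subst hj; rw [u4, u2 i hi]; exact (hy' i).2
          · rw [u2 i hi, u2 j hj]; exact h.ff i j
      · intro i j hij
        by_cases hi : i = k
        · subst hi
          rw [u3, u2 j hij.symm, polar_comm]; exact (hx' j).2
        · by_cases hj : j = k
          · subst hj; rw [u4, u1 i hi]; exact (hy' i).1
          · rw [u1 i hi, u2 j hj]; exact h.ef i j hij
      · intro i hi
        by_cases hik : i = k
        · subst hik; rw [u3, u4]; exact hxy.pair
        · rw [u1 i hik, u2 i hik]; exact h.one i (by omega)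
      · intro i hi
        rw [u1 i (by omega)]; exact h.ze i (by omega)
      · intro i hi
        rw [u2 i (by omega)]; exact h.zf i (by omega)
    · intro i
      by_cases hi : i = k
      · subst hi; rw [u3]; exact hMx
      · rw [u1 i hi]; exact he i
    · intro i
      by_cases hi : i = k
      · subst hi; rw [u4]; exact hMy
      · rw [u2 i hi]; exact hf i

/-- **standard field automorphisms: ten conjugates** -/
theorem reach_std [Finite F] [FiniteDimensional F V] (hG : Good Q) (h7 : 7 ≤ Module.finrank F V)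
    (hM : IsSemi Q M σ 1) (hσ : σ ≠ 1) {p : ℕ} (hp : p = orderOf σ) (hp0 : 0 < p)
    (hMp : ∀ v, M^[p] v = v) : Reach₁ (conjE hM) 9 (⊤ : Subgroup ↥(E Q)) := by
  set n := Module.finrank F V with hn
  obtain ⟨e, f, h, he, hf⟩ := exists_sys hG.nondeg hM hp hp0 hMp (2 * ((n - 3) / 4) + 1) (by omega)
  have hr := finrank_U h
  have hUM : ∀ u ∈ U Q e f, M u ∈ U Q e f := by
    intro u hu i
    have h1 := hM.polar (e i) u
    have h2 := hM.polar (f i) u
    rw [he, (hu i).1, map_zero, mul_zero] at h1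
    rw [hf, (hu i).2, map_zero, mul_zero] at h2
    exact ⟨h1, h2⟩
  have hs := span_fixed hM.smul hp hp0 hMp hUM
  obtain ⟨r, hrdef⟩ : ∃ r, r = Module.finrank F (U Q e f) := ⟨_, rfl⟩
  obtain ⟨g, hg, hgs, -⟩ := exists_fix_basis hs hrdef
  have hr4 : r ≤ 4 := by omega
  have hr1 : 1 ≤ r := by omega
  let w : Fin 4 → V := fun j => if hj : (j : ℕ) < r then g ⟨j, hj⟩ else 0
  have hwU : ∀ j, w j ∈ U Q e f := by
    intro j
    change (if hj : (j : ℕ) < r then g ⟨j, hj⟩ else 0) ∈ U Q e f
    split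
    · exact (hg _).1
    · exact zero_mem _
  have hwM : ∀ j, M (w j) = w j := by
    intro j
    change M (if hj : (j : ℕ) < r then g ⟨j, hj⟩ else 0) = (if hj : (j : ℕ) < r then g ⟨j, hj⟩ else 0)
    split
    · exact (hg _).2
    · exact map_zero M
  have hgw : ∀ i : Fin r, ∃ j, w j = g i := by
    intro i
    refine ⟨⟨i, by omega⟩, ?_⟩
    change (if hj : (i : ℕ) < r then g ⟨i, hj⟩ else 0) = g i
    rw [dif_pos i.2]
  have hspanw : U Q e f ≤ Submodule.span F (Set.range w) := by
    rw [← hgs, Submodule.span_le]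
    rintro _ ⟨i, rfl⟩
    obtain ⟨j, hj⟩ := hgw i
    rw [← hj]
    exact Submodule.subset_span ⟨j, rfl⟩
  have hspan : Submodule.span F (Set.range e ∪ Set.range f ∪ Set.range w) = ⊤ := by
    rw [Submodule.span_union, eq_top_iff, ← span_sup h]
    exact sup_le_sup_left hspanw _
  obtain ⟨j, j', hjj⟩ : ∃ j j', polar Q (w j) (w j') ≠ 0 := by
    by_contra hcon
    push Not at hcon
    have h1 : ∀ u ∈ U Q e f, ∀ j, polar Q (w j) u = 0 := by
      intro u hu j
      have hu' := hspanw hu
      clear hu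
      induction hu' using Submodule.span_induction with
      | mem v hv => obtain ⟨j', rfl⟩ := hv; exact hcon j j'
      | zero => simp
      | add a b _ _ ha hb => rw [polar_add_right, ha, hb, add_zero]
      | smul a b _ hb => rw [polar_smul_right, hb, smul_zero]
    have h2 : ∀ j, w j = 0 := fun j => nondeg_U hG.nondeg h (hwU j) fun v hv => h1 v hv j
    have h3 : U Q e f = ⊥ := by
      rw [eq_bot_iff]
      refine hspanw.trans ?_
      rw [Submodule.span_le]
      rintro _ ⟨j, rfl⟩
      rw [h2 j]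
      exact zero_mem _
    rw [h3, finrank_bot] at hrdef
    omega
  exact reach_of_sys hG hM hσ h (by omega) ⟨(n - 3) / 4, rfl⟩ (fun i j => (hwU j i).1)
    (fun i j => (hwU j i).2) hspan hjj he hf hwM

end Cfsg.Agent.H989.Gs.Frame

/-!
# Semilinear automorphisms of orthogonal groups: ten conjugates
-/


namespace Cfsg.Agent.H989.Gs.Row

open QuadraticMap Cfsg.Agent.LieClassical.OrthCore Cfsg.Agent.LieClassical.OrthTrans
  Cfsg.Agent.LieClassical.OrthSimple Cfsg.Agent.AutOrth.SemiSim Cfsg.Agent.AutOrth.Gen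
  Cfsg.Agent.H989.Gs.Gen Cfsg.Agent.H989.Gs.Semi Cfsg.Agent.H989.Gs.Desc Cfsg.Agent.H915.Gs
  Cfsg.Agent.H989.Gs.Frame Cfsg.Agent.ClassicalGeometry.OrthAut1

variable {F V : Type*} [Field F] [AddCommGroup V] [Module F V] {Q : QuadraticForm F V}
variable {M : V ≃+ V} {σ : RingAut F} {c : F}

/-! ### Normalisation -/

theorem form_iterate (hM : IsSemi Q M σ c) (n : ℕ) (v : V) :
    Q (M^[n] v) = (∏ i ∈ Finset.range n, (σ ^ i) c) * (σ ^ n) (Q v) := by
  induction n with
  | zero => rw [Finset.range_zero, Finset.prod_empty, one_mul]; rfl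
  | succ n ih =>
    rw [Function.iterate_succ_apply', hM.form, ih, map_mul, Finset.prod_range_succ', map_prod, pow_succ',
      RingAut.mul_apply, pow_zero, RingAut.one_apply]
    have : ∏ i ∈ Finset.range n, σ ((σ ^ i) c) = ∏ i ∈ Finset.range n, (σ ^ (i + 1)) c :=
      Finset.prod_congr rfl fun i _ => by rw [pow_succ', RingAut.mul_apply]
    rw [this]
    ring

/-- Hilbert 90 -/
theorem hilbert {c : F} (hc : c ≠ 0) (hpos : 0 < orderOf σ)
    (h : ∏ i ∈ Finset.range (orderOf σ), (σ ^ i) c = 1) : ∃ y : F, y ≠ 0 ∧ c * σ y = y := by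
  let N : F ≃+ F := (σ : F ≃+* F).toAddEquiv
  have hN : ∀ (a v : F), N (a • v) = σ a • N v := fun a v => map_mul σ a v
  let N' : F ≃+ F := sm (Units.mk0 c hc) N
  have hN' : ∀ (a v : F), N' (a • v) = σ a • N' v := by
    intro a v
    change c * σ (a * v) = σ a * (c * σ v)
    rw [map_mul]
    ring
  have hit : ∀ v, N'^[orderOf σ] v = v := by
    intro v
    have h1 := sm_iterate hN (Units.mk0 c hc) (orderOf σ) v
    have h2 : N^[orderOf σ] v = (σ ^ orderOf σ) v := by
      have : ∀ n, N^[n] v = (σ ^ n) v := by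
        intro n
        induction n with
        | zero => rfl
        | succ n ih => rw [Function.iterate_succ_apply', ih, pow_succ', RingAut.mul_apply]; rfl
      exact this _
    rw [Units.val_mk0, h, one_smul, h2, pow_orderOf_eq_one, RingAut.one_apply] at h1
    exact h1
  have hs := span_fixed (U := (⊤ : Submodule F F)) hN' rfl hpos hit (fun _ _ => trivial)
  by_contra hcon
  push Not at hcon
  have h3 : (⊤ : Submodule F F) = ⊥ := by
    rw [← hs, Submodule.span_eq_bot]
    rintro v ⟨-, hv⟩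
    by_contra hv0
    exact hcon v hv0 hv
  exact top_ne_bot h3

theorem IsSemi.sm (hM : IsSemi Q M σ c) (b : Fˣ) : IsSemi Q (sm b M) σ ((b : F) * b * c) where
  ne := mul_ne_zero (mul_ne_zero b.ne_zero b.ne_zero) hM.ne
  smul a v := by rw [sm_apply, sm_apply, hM.smul, smul_smul, smul_smul, mul_comm]
  form v := by
    rw [sm_apply, QuadraticMap.map_smul, hM.form, smul_eq_mul]
    ring

theorem smul_Q (d : F) (v : V) : (d • Q) v = d * Q v := rfl

theorem polar_smul_Q (d : F) (v w : V) : polar (d • Q : QuadraticForm F V) v w = d * polar Q v w := by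
  simp only [polar, smul_Q]
  ring

theorem exists_std [Finite F] (hG : Good Q) (hM : IsSemi Q M σ c) {l : F} (hl : l ≠ 0)
    (hMl : ∀ v, M^[orderOf σ] v = l • v) :
    ∃ (b : Fˣ) (d : F), d ≠ 0 ∧ IsSemi (d • Q) (sm b M) σ 1 ∧ ∀ v, (sm b M)^[orderOf σ] v = v := by
  have hfin : Finite (RingAut F) := by
    have : Function.Injective (fun τ : RingAut F => (τ : F → F)) := fun τ ρ h => by
      ext x
      exact congrFun h x
    exact Finite.of_injective _ this
  obtain ⟨x, y, hxy⟩ := hG.exists_hyp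
  obtain ⟨b, hb⟩ := exists_normalize hM.smul hl hMl hxy.left_ne
  have hM' := IsSemi.sm hM b
  set c' := (b : F) * b * c with hc'
  have h1 := form_iterate hM' (orderOf σ) (x + y)
  have hQ1 : Q (x + y) = 1 := by rw [Q_add, hxy.left, hxy.right, hxy.pair]; simp
  rw [hb, hQ1, map_one, mul_one] at h1
  obtain ⟨z, hz0, hz⟩ := hilbert hM'.ne (orderOf_pos σ) h1.symm
  refine ⟨b, z⁻¹, inv_ne_zero hz0, ⟨one_ne_zero, hM'.smul, fun v => ?_⟩, hb⟩
  rw [smul_Q, smul_Q, hM'.form, map_mul, map_inv₀, one_mul, ← mul_assoc]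
  congr 1
  have hσz : σ z ≠ 0 := by simpa using hz0
  field_simp
  exact hz

/-! ### Scaling the form -/

theorem E_smul_le {d : F} (hd : d ≠ 0) : E (d • Q) ≤ E Q := by
  rw [E, Subgroup.closure_le]
  rintro _ ⟨u, w, hu, hw, rfl⟩
  have hu' : Q u = 0 := by
    rw [smul_Q] at hu
    exact (mul_eq_zero.1 hu).resolve_left hd
  have hw' : polar Q u (d • w) = 0 := by
    rw [polar_smul_Q] at hw
    rw [polar_smul_right, smul_eq_mul]
    exact hw
  have : siegel (d • Q) u w hu hw = siegel Q u (d • w) hu' hw' := by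
    ext v
    rw [siegel_apply, siegel_apply, polar_smul_Q, polar_smul_Q, smul_Q, QuadraticMap.map_smul, polar_smul_left]
    simp only [smul_eq_mul]
    module
  rw [this]
  exact siegel_mem_E _ _

theorem E_smul {d : F} (hd : d ≠ 0) : E (d • Q) = E Q := by
  apply le_antisymm (E_smul_le hd)
  have h1 := E_smul_le (Q := d • Q) (inv_ne_zero hd)
  rwa [smul_smul, inv_mul_cancel₀ hd, one_smul] at h1

theorem good_smul [Finite F] [FiniteDimensional F V] (hG : Good Q) {d : F} (hd : d ≠ 0) : Good (d • Q) := by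
  apply Cfsg.Agent.LieClassical.OrthFinite.good_of_finite _ hG.dim
  intro x hx
  apply hG.nondeg
  intro y
  have := hx y
  rw [polar_smul_Q] at this
  exact (mul_eq_zero.1 this).resolve_left hd

/-- the projection `E (d • Q) → P Q` -/
noncomputable def prj {d : F} (hd : d ≠ 0) : ↥(E (d • Q)) →* _root_.Cfsg.Agent.ClassicalGeometry.OrthAut1.P Q :=
  (QuotientGroup.mk' (Subgroup.center ↥(E Q))).comp (Subgroup.inclusion (E_smul hd).le)

theorem prj_surj {d : F} (hd : d ≠ 0) : Function.Surjective (prj (Q := Q) hd) := by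
  intro x
  obtain ⟨g, rfl⟩ := QuotientGroup.mk_surjective x
  exact ⟨⟨g.1, by rw [E_smul hd]; exact g.2⟩, rfl⟩

/-! ### The induced automorphism -/

/-- `x` is induced by `M` -/
def Ind (x : MulAut (_root_.Cfsg.Agent.ClassicalGeometry.OrthAut1.P Q)) (hM : IsSemi Q M σ c) : Prop :=
  ∀ g : ↥(E Q), x (QuotientGroup.mk g) = QuotientGroup.mk (conjE hM g)

/-- the semisimilitude group element -/
def toGam (hM : IsSemi Q M σ c) : Cfsg.Agent.ClassicalGeometry.OrthSemi.Gam Q :=
  ⟨M.toEquiv, σ, c, hM.ne, fun u v => map_add M u v, hM.smul, hM.form⟩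

theorem Psi_toGam {x : MulAut (_root_.Cfsg.Agent.ClassicalGeometry.OrthAut1.P Q)} {hM : IsSemi Q M σ c} (h : Ind x hM) :
    Cfsg.Agent.ClassicalGeometry.OrthSemi.Psi Q (toGam hM) = x := by
  ext p
  obtain ⟨g, rfl⟩ := QuotientGroup.mk_surjective p
  rw [h g, Cfsg.Agent.ClassicalGeometry.OrthSemi.Psi_mk]
  refine congrArg _ ?_
  apply ext_E
  intro v
  obtain ⟨v, rfl⟩ := M.surjective v
  rw [conjE_apply, Cfsg.Agent.ClassicalGeometry.OrthSemi.coe_conjE]
  exact Cfsg.Agent.ClassicalGeometry.OrthSemi.conjLin_apply' (Q := Q) (toGam hM) g.1 v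

theorem toGam_pow (hM : IsSemi Q M σ c) (n : ℕ) (v : V) : (toGam hM ^ n).1 v = M^[n] v := by
  induction n generalizing v with
  | zero => rfl
  | succ n ih =>
    rw [pow_succ, Function.iterate_succ_apply, ← ih]
    rfl

/-- **if `x ^ p = 1`, then `M ^ p` is a scalar and `σ ^ p = 1`** -/
theorem scalar_of_pow (hG : Good Q) {x : MulAut (_root_.Cfsg.Agent.ClassicalGeometry.OrthAut1.P Q)} {hM : IsSemi Q M σ c} (h : Ind x hM) {p : ℕ}
    (hp : x ^ p = 1) : (∃ l : F, l ≠ 0 ∧ ∀ v, M^[p] v = l • v) ∧ σ ^ p = 1 := by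
  have h1 : Cfsg.Agent.ClassicalGeometry.OrthSemi.Psi Q (toGam hM ^ p) = 1 := by
    rw [map_pow, Psi_toGam h, hp]
  rw [← MonoidHom.mem_ker, Cfsg.Agent.ClassicalGeometry.OrthSemi.ker_Psi hG] at h1
  obtain ⟨a, ha⟩ := h1
  constructor
  · refine ⟨a, a.ne_zero, fun v => ?_⟩
    rw [← toGam_pow hM, ← ha]
    rfl
  · have h2 : Cfsg.Agent.H989.OutOrth.Basic.sg hG (toGam hM) = σ :=
      Cfsg.Agent.H989.OutOrth.Basic.sg_eq hG ⟨hM.ne, fun u v => map_add M u v, hM.smul, hM.form⟩
    have h3 := Cfsg.Agent.H989.OutOrth.Basic.sg_scal hG a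
    rw [ha, map_pow, h2] at h3
    exact h3

/-- **semilinear automorphisms of prime order: ten conjugates generate `P Q`** -/
theorem reach_semi [Finite F] [FiniteDimensional F V] (hG : Good Q) (h7 : 7 ≤ Module.finrank F V)
    {x : MulAut (_root_.Cfsg.Agent.ClassicalGeometry.OrthAut1.P Q)} (hx : (orderOf x).Prime) {hM : IsSemi Q M σ c} (h : Ind x hM) (hσ : σ ≠ 1) :
    _root_.Cfsg.Agent.H915.Gs.Reach x 10 ⊤ := by
  obtain ⟨⟨l, hl, hMl⟩, hσp⟩ := scalar_of_pow hG h (pow_orderOf_eq_one x)
  have hord : orderOf σ = orderOf x := by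
    rcases (Nat.dvd_prime hx).1 (orderOf_dvd_of_pow_eq_one hσp) with h1 | h1
    · exact absurd (orderOf_eq_one_iff.1 h1) hσ
    · exact h1
  rw [← hord] at hMl
  obtain ⟨b, d, hd, hM', hp⟩ := exists_std hG hM hl hMl
  have hG' := good_smul hG hd
  have h1 := reach_std hG' h7 hM' hσ rfl (by rw [hord]; exact hx.pos) hp
  refine h1.reach.transfer_top (π := prj hd) (prj_surj hd) fun g => ?_
  change (QuotientGroup.mk _ : _root_.Cfsg.Agent.ClassicalGeometry.OrthAut1.P Q) = x (QuotientGroup.mk _)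
  rw [h]
  refine congrArg _ ?_
  apply ext_E
  intro v
  obtain ⟨v, rfl⟩ := (sm b M).surjective v
  have e1 : ((conjE hM' g : ↥(E (d • Q))) : V ≃ₗ[F] V) (sm b M v) = sm b M ((g : V ≃ₗ[F] V) v) :=
    conjE_apply hM' g v
  have e2 : ((conjE hM (Subgroup.inclusion (E_smul hd).le g) : ↥(E Q)) : V ≃ₗ[F] V) (sm b M v) =
      sm b M ((g : V ≃ₗ[F] V) v) := by
    rw [sm_apply, map_smul, conjE_apply, sm_apply]
    rfl
  exact e1.trans e2.symm

/-- **the same in terms of `Psi`** -/
theorem reach_psi [Finite F] [FiniteDimensional F V] (hG : Good Q) (h7 : 7 ≤ Module.finrank F V)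
    (N : Cfsg.Agent.ClassicalGeometry.OrthSemi.Gam Q) {τ : F ≃+* F} {b : F}
    (hN : Cfsg.Agent.ClassicalGeometry.OrthSemi.IsSS Q τ b N.1) (hτ : τ ≠ RingEquiv.refl F)
    (hx : (orderOf (Cfsg.Agent.ClassicalGeometry.OrthSemi.Psi Q N)).Prime) :
    _root_.Cfsg.Agent.H915.Gs.Reach (Cfsg.Agent.ClassicalGeometry.OrthSemi.Psi Q N) 11 ⊤ := by
  let M' : V ≃+ V := { N.1 with map_add' := hN.add }
  have hM' : IsSemi Q M' τ b := ⟨hN.ne, hN.smul, hN.form⟩
  have h : Ind (Cfsg.Agent.ClassicalGeometry.OrthSemi.Psi Q N) hM' := by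
    intro g
    rw [Cfsg.Agent.ClassicalGeometry.OrthSemi.Psi_mk]
    refine congrArg _ ?_
    apply ext_E
    intro v
    obtain ⟨v, rfl⟩ := M'.surjective v
    rw [conjE_apply, Cfsg.Agent.ClassicalGeometry.OrthSemi.coe_conjE]
    exact Cfsg.Agent.ClassicalGeometry.OrthSemi.conjLin_apply' (Q := Q) N g.1 v
  exact (reach_semi hG h7 hx h hτ).mono (by norm_num) (by norm_num)

end Cfsg.Agent.H989.Gs.Row

private theorem dce_37140f4543be : _root_.True := by
  try have : _root_.True := by simp only [_root_.Cfsg.Agent.AutOrth.SemiSim.conjE.congr_simp]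
  exact _root_.True.intro
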